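import Cfsg.Agent.Lib.SpinCover.Multiplier
import Cfsg.Prelude.Def_SporadicB

/-!
# Two non-split double covers of the alternating group of degree eight are isomorphic

The commutator subgroup of their fibre product is a perfect central extension of the alternating group,
so its kernel has order at most two and both projections are bijective.
-/

set_option autoImplicit false
set_option linter.style.haveILetI false

namespace Cfsg.Agent.McLRecog

open Subgroup Equiv
open scoped commutatorElement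

local notation "A8" => (alternatingGroup (Fin 8))

theorem perfect_A8 : commutator ↥A8 = ⊤ := by
  haveI : IsSimpleGroup ↥A8 := alternatingGroup.isSimpleGroup (by simp)
  rcases IsSimpleGroup.eq_bot_or_eq_top_of_normal _ (inferInstance : (commutator ↥A8).Normal) with h | h
  · have hc : center ↥A8 = ⊤ := (commutator_eq_bot_iff_center_eq_top _).1 h
    have hb := alternatingGroup.center_eq_bot (α := Fin 8) (by simp)
    rw [hb] at hc
    exact absurd hc bot_ne_top
  · exact h

/-- A cover and its map to the permutations. -/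
theorem cover_hom {H : Type*} [Group H] (h : Cfsg.IsNonsplitDoubleCover H ↥A8) :
    ∃ π : H →* Perm (Fin 8), π.range = A8 ∧ π.ker = center H ∧ commutator H = ⊤ := by
  obtain ⟨hc, ⟨e⟩, hs⟩ := h
  let q : H →* ↥A8 := e.toMonoidHom.comp (QuotientGroup.mk' (center H))
  have hq : Function.Surjective q := e.surjective.comp (QuotientGroup.mk'_surjective _)
  have hqk : q.ker = center H := by
    ext x
    rw [MonoidHom.mem_ker]
    show e ((x : H) : H ⧸ center H) = 1 ↔ _
    rw [map_eq_one_iff _ e.injective, QuotientGroup.eq_one_iff]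
  refine ⟨(A8).subtype.comp q, ?_, ?_, ?_⟩
  · rw [MonoidHom.range_comp, MonoidHom.range_eq_top.2 hq, ← MonoidHom.range_eq_map, range_subtype]
  · rw [← hqk]
    ext x
    simp [MonoidHom.mem_ker]
  · have hmap : (commutator H).map q = ⊤ := by
      rw [_root_.commutator_def, map_commutator, ← MonoidHom.range_eq_map, MonoidHom.range_eq_top.2 hq,
        ← _root_.commutator_def, perfect_A8]
    have hsup : commutator H ⊔ center H = ⊤ := by
      rw [← hqk, ← comap_map_eq, hmap, comap_top]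
    by_contra hne
    haveI : Finite ↥(center H) := Nat.finite_of_card_ne_zero (by omega)
    have hdis : Disjoint (center H) (commutator H) := by
      rw [disjoint_iff]
      by_contra hb
      have h1 : (center H ⊓ commutator H) = center H :=
        eq_of_le_of_card_ge inf_le_left (by
          have h2 : Nat.card ↥(center H ⊓ commutator H : Subgroup H) ≠ 1 := fun h2 => hb (Subgroup.card_eq_one.1 h2)
          haveI : Finite ↥(center H ⊓ commutator H : Subgroup H) :=
            Finite.of_injective _ (Subgroup.inclusion_injective inf_le_left)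
          have h3 : 0 < Nat.card ↥(center H ⊓ commutator H : Subgroup H) := Nat.card_pos
          omega)
      exact hne (by rw [← hsup, sup_eq_left.2 (inf_eq_left.1 h1)])
    refine hs (commutator H) (isComplement'_of_disjoint_and_mul_eq_univ hdis ?_)
    rw [← Subgroup.coe_mul_of_right_le_normalizer_left, sup_comm, hsup]
    · rfl
    · exact le_normalizer_of_normal

/-- The covers are isomorphic. -/
theorem cover_iso {H K : Type*} [Group H] [Group K] [Finite H] [Finite K]
    (hH : Cfsg.IsNonsplitDoubleCover H ↥A8) (hK : Cfsg.IsNonsplitDoubleCover K ↥A8) :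
    Nonempty (H ≃* K) := by
  obtain ⟨π, hπ, hπk, hHc⟩ := cover_hom hH
  obtain ⟨ρ, hρ, hρk, hKc⟩ := cover_hom hK
  let P : Subgroup (H × K) :=
    (π.comp (MonoidHom.fst H K)).eqLocus (ρ.comp (MonoidHom.snd H K))
  have hP : ∀ x : H × K, x ∈ P ↔ π x.1 = ρ x.2 := fun x => Iff.rfl
  have hfst : ∀ h : H, ∃ k, (h, k) ∈ P := fun h => by
    have : π h ∈ ρ.range := by rw [hρ, ← hπ]; exact ⟨h, rfl⟩
    obtain ⟨k, hk⟩ := this
    exact ⟨k, (hP _).2 hk.symm⟩
  have hsnd : ∀ k : K, ∃ h, (h, k) ∈ P := fun k => by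
    have : ρ k ∈ π.range := by rw [hπ, ← hρ]; exact ⟨k, rfl⟩
    obtain ⟨h, hh⟩ := this
    exact ⟨h, (hP _).2 hh⟩
  set Γ : Subgroup (H × K) := ⁅P, P⁆ with hΓ
  have hΓP : Γ ≤ P := commutator_le_self P
  have hΓ1 : Γ.map (MonoidHom.fst H K) = ⊤ := by
    rw [hΓ, map_commutator, show P.map (MonoidHom.fst H K) = ⊤ from eq_top_iff.2 fun h _ => by
      obtain ⟨k, hk⟩ := hfst h
      exact ⟨(h, k), hk, rfl⟩, ← _root_.commutator_def, hHc]
  have hΓ2 : Γ.map (MonoidHom.snd H K) = ⊤ := by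
    rw [hΓ, map_commutator, show P.map (MonoidHom.snd H K) = ⊤ from eq_top_iff.2 fun k _ => by
      obtain ⟨h, hh⟩ := hsnd k
      exact ⟨(h, k), hh, rfl⟩, ← _root_.commutator_def, hKc]
  let f : ↥Γ →* Perm (Fin 8) := π.comp ((MonoidHom.fst H K).comp Γ.subtype)
  have hcen : ∀ x : ↥Γ, f x = 1 → (x : H × K).1 ∈ center H ∧ (x : H × K).2 ∈ center K := fun x hx =>
    ⟨hπk ▸ hx, by rw [← hρk, MonoidHom.mem_ker, ← (hP _).1 (hΓP x.2)]; exact hx⟩
  have hperf : ⁅Γ, Γ⁆ = Γ := by
    refine le_antisymm (commutator_le_self Γ) ?_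
    conv_lhs => rw [hΓ]
    rw [commutator_le]
    intro a ha b hb
    have key : ∀ x ∈ P, ∃ g ∈ Γ, ∃ c : H × K, c ∈ center (H × K) ∧ x = g * c := by
      intro x hx
      have : x.1 ∈ Γ.map (MonoidHom.fst H K) := hΓ1 ▸ mem_top _
      obtain ⟨g, hg, hgx⟩ := this
      refine ⟨g, hg, g⁻¹ * x, ?_, (mul_inv_cancel_left g x).symm⟩
      have h1 : (g⁻¹ * x).1 = 1 := by
        show g.1⁻¹ * x.1 = 1
        rw [show g.1 = x.1 from hgx, inv_mul_cancel]
      have h2 : (g⁻¹ * x).2 ∈ center K := by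
        rw [← hρk, MonoidHom.mem_ker, ← (hP _).1 (mul_mem (inv_mem (hΓP hg)) hx), h1, map_one]
      refine mem_center_iff.2 fun y => Prod.ext ?_ (mem_center_iff.1 h2 y.2)
      show y.1 * (g⁻¹ * x).1 = (g⁻¹ * x).1 * y.1
      rw [h1, mul_one, one_mul]
    obtain ⟨g, hg, c, hc, rfl⟩ := key a ha
    obtain ⟨g', hg', c', hc', rfl⟩ := key b hb
    have h1 : ⁅g * c, g' * c'⁆ = ⁅g, g'⁆ := by
      have e1 : ∀ y, y * c = c * y := mem_center_iff.1 hc
      have e2 : ∀ y, y * c' = c' * y := mem_center_iff.1 hc'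
      simp only [commutatorElement_def, mul_inv_rev]
      calc g * c * (g' * c') * (c⁻¹ * g⁻¹) * (c'⁻¹ * g'⁻¹)
          = g * (c * (g' * c')) * c⁻¹ * g⁻¹ * (c'⁻¹ * g'⁻¹) := by group
        _ = g * (g' * c' * c) * c⁻¹ * g⁻¹ * (c'⁻¹ * g'⁻¹) := by rw [e1 (g' * c')]
        _ = g * g' * (c' * g⁻¹) * c'⁻¹ * g'⁻¹ := by group
        _ = g * g' * (g⁻¹ * c') * c'⁻¹ * g'⁻¹ := by rw [e2 g⁻¹]
        _ = g * g' * g⁻¹ * g'⁻¹ := by group
    rw [h1]
    exact commutator_mem_commutator hg hg'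
  have hext : SpinCover.Multiplier.IsExt f f.ker := by
    refine ⟨fun g => Iff.rfl, fun x hx => mem_center_iff.2 fun y => Subtype.ext (Prod.ext ?_ ?_),
      fun g => hπ ▸ ⟨_, rfl⟩, fun σ hσ => ?_⟩
    · exact mem_center_iff.1 (hcen x hx).1 (y : H × K).1
    · exact mem_center_iff.1 (hcen x hx).2 (y : H × K).2
    · rw [← hπ] at hσ
      obtain ⟨h, hh⟩ := hσ
      have : h ∈ Γ.map (MonoidHom.fst H K) := hΓ1 ▸ mem_top _
      obtain ⟨g, hg, hgh⟩ := this
      exact ⟨⟨g, hg⟩, by show π g.1 = σ; rw [← hh, ← hgh]; rfl⟩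
  have hd : f.ker ≤ _root_.commutator ↥Γ := by
    intro x _
    have hx : (x : H × K) ∈ ⁅Γ, Γ⁆ := hperf.symm ▸ x.2
    have h1 : (_root_.commutator ↥Γ).map Γ.subtype = ⁅Γ, Γ⁆ := by
      rw [_root_.commutator_def, map_commutator, ← MonoidHom.range_eq_map, range_subtype]
    rw [← h1] at hx
    obtain ⟨y, hy, hyx⟩ := hx
    rwa [← Subtype.ext hyx]
  have hker := SpinCover.Multiplier.card_ker_le_two hext hd (by norm_num) (by norm_num) (by norm_num)
  have hrange : f.range = A8 := le_antisymm (fun σ ⟨g, hg⟩ => hπ ▸ ⟨_, hg⟩) fun σ hσ => hext.surj σ hσ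
  have hcard : Nat.card ↥Γ ≤ 2 * Nat.card ↥A8 := by
    rw [card_eq_card_quotient_mul_card_subgroup f.ker,
      Nat.card_congr (QuotientGroup.quotientKerEquivRange f).toEquiv, hrange, mul_comm]
    exact Nat.mul_le_mul_right _ hker
  have hcardH : Nat.card H = 2 * Nat.card ↥A8 := by
    obtain ⟨hc, ⟨e⟩, -⟩ := hH
    rw [card_eq_card_quotient_mul_card_subgroup (center H), Nat.card_congr e.toEquiv, hc, mul_comm]
  have hcardK : Nat.card K = 2 * Nat.card ↥A8 := by
    obtain ⟨hc, ⟨e⟩, -⟩ := hK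
    rw [card_eq_card_quotient_mul_card_subgroup (center K), Nat.card_congr e.toEquiv, hc, mul_comm]
  have s1 : Function.Surjective ((MonoidHom.fst H K).comp Γ.subtype) := fun h => by
    have : h ∈ Γ.map (MonoidHom.fst H K) := hΓ1 ▸ mem_top _
    obtain ⟨g, hg, hgh⟩ := this
    exact ⟨⟨g, hg⟩, hgh⟩
  have s2 : Function.Surjective ((MonoidHom.snd H K).comp Γ.subtype) := fun h => by
    have : h ∈ Γ.map (MonoidHom.snd H K) := hΓ2 ▸ mem_top _
    obtain ⟨g, hg, hgh⟩ := this
    exact ⟨⟨g, hg⟩, hgh⟩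
  exact ⟨(MulEquiv.ofBijective _ (Nat.bijective_iff_surjective_and_card _ |>.2 ⟨s1, le_antisymm (hcardH ▸ hcard) (Nat.card_le_card_of_surjective _ s1)⟩)).symm.trans
    (MulEquiv.ofBijective _ (Nat.bijective_iff_surjective_and_card _ |>.2 ⟨s2, le_antisymm (hcardK ▸ hcard) (Nat.card_le_card_of_surjective _ s2)⟩))⟩

end Cfsg.Agent.McLRecog
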